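import Groth.Agent.Lib.SN25.Scheme
import Mathlib.AlgebraicGeometry.Morphisms.Proper
import Mathlib.AlgebraicGeometry.IdealSheaf.Subscheme

/-!
# Factorizations through finite universal homeomorphisms
-/

set_option autoImplicit false

universe u

open CategoryTheory Limits AlgebraicGeometry

namespace GrothLib.SN25

theorem residueFieldsIso_of_comp_surjective {A B C : Scheme.{u}} (f : A ⟶ B) (g : B ⟶ C) [Surjective f]
    (h : HTop.ResidueFieldsIso (f ≫ g)) : HTop.ResidueFieldsIso g := fun y => by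
  obtain ⟨x, rfl⟩ := f.surjective y
  have h1 : IsIso ((f ≫ g).residueFieldMap x) := h x
  have h2 : Function.Bijective (g.residueFieldMap (f x) ≫ f.residueFieldMap x) := by
    have h3 := ConcreteCategory.bijective_of_isIso ((f ≫ g).residueFieldMap x)
    rw [Scheme.residueFieldMap_comp] at h3
    exact h3
  rw [ConcreteCategory.isIso_iff_bijective]
  refine ⟨RingHom.injective _, fun b => ?_⟩
  obtain ⟨a, ha⟩ := h2.2 (f.residueFieldMap x b)
  exact ⟨a, RingHom.injective (f.residueFieldMap x).hom ha⟩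

/-- A map over a universal homeomorphism factors through a finite universal homeomorphism. -/
theorem exists_finite_stage {T T' P : Scheme.{u}} (ν : T' ⟶ T) (hν : FlatMor.IsUnivHomeo ν)
    (q : P ⟶ T) [IsSeparated q] [LocallyOfFiniteType q] (h : T' ⟶ P) (hh : h ≫ q = ν) :
    ∃ (T₁ : Scheme.{u}) (π : T₁ ⟶ T) (_ : IsFinite π) (_ : FlatMor.IsUnivHomeo π) (i : T₁ ⟶ P)
      (t : T' ⟶ T₁), i ≫ q = π ∧ t ≫ i = h ∧ t ≫ π = ν ∧
        (HTop.ResidueFieldsIso ν → HTop.ResidueFieldsIso π) := by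
  have hc : UniversallyClosed ν := Frob.universallyClosed_of ν hν
  have hi : UniversallyInjective ν := Frob.universallyInjective_of ν hν
  have hs : Surjective ν := Frob.surjective_of ν hν
  have : UniversallyClosed (h ≫ q) := hh ▸ hc
  have hhc : UniversallyClosed h := Frob.universallyClosed_of_comp h q
  let π := h.imageι ≫ q
  let t := h.toImage
  have ht : t ≫ π = ν := by rw [← hh]; exact (Category.assoc _ _ _).symm.trans (congrArg (· ≫ q) h.toImage_imageι)
  have : Surjective t :=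
    have hcl : UniversallyClosed t := inferInstanceAs (UniversallyClosed h.toImage)
    have hd : IsDominant t := inferInstanceAs (IsDominant h.toImage)
    surjective_of_isDominant_of_isClosed_range t t.isClosedMap.isClosed_range
  have : UniversallyClosed (t ≫ π) := ht ▸ hc
  have : UniversallyInjective (t ≫ π) := ht ▸ hi
  have : Surjective (t ≫ π) := ht ▸ hs
  have h1 : UniversallyClosed π := UniversallyClosed.of_comp_surjective t π
  have h2 : UniversallyInjective π := Frob.universallyInjective_of_comp_surjective t π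
  have h3 : Surjective π := Surjective.of_comp t π
  have hu : FlatMor.IsUnivHomeo π := (Frob.isUnivHomeo_iff π).2 ⟨h1, h2, h3⟩
  obtain ⟨hint, -, -⟩ := (Groth.Agent.S0415.result π).1 hu
  have hft : LocallyOfFiniteType π := inferInstanceAs (LocallyOfFiniteType (h.imageι ≫ q))
  have hfin : IsFinite π := (IsFinite.iff_isIntegralHom_and_locallyOfFiniteType π).2 ⟨hint, hft⟩
  refine ⟨h.image, π, hfin, hu, h.imageι, t, rfl, h.toImage_imageι, ht, fun hr => ?_⟩
  exact residueFieldsIso_of_comp_surjective t π (ht ▸ hr)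

/-- Morphisms out of a universal homeomorphism factor through a finite one. -/
theorem exists_factor {S X T T' : Scheme.{u}} (fX : X ⟶ S) [IsSeparated fX] [LocallyOfFiniteType fX]
    (fT : T ⟶ S) (ν : T' ⟶ T) (hν : FlatMor.IsUnivHomeo ν) (g : T' ⟶ X) (hg : g ≫ fX = ν ≫ fT) :
    ∃ (T₁ : Scheme.{u}) (π : T₁ ⟶ T) (_ : IsFinite π) (_ : FlatMor.IsUnivHomeo π) (g₁ : T₁ ⟶ X)
      (h : T' ⟶ T₁), h ≫ π = ν ∧ g₁ ≫ fX = π ≫ fT ∧ h ≫ g₁ = g ∧
        (HTop.ResidueFieldsIso ν → HTop.ResidueFieldsIso π) := by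
  obtain ⟨T₁, π, hf, hu, i, t, hi, ht, htp, hr⟩ := exists_finite_stage ν hν (pullback.snd fX fT)
    (pullback.lift g ν hg) (pullback.lift_snd _ _ _)
  refine ⟨T₁, π, hf, hu, i ≫ pullback.fst fX fT, t, htp, ?_, ?_, hr⟩
  · rw [Category.assoc, pullback.condition, ← Category.assoc, hi]
  · rw [← Category.assoc, ht, pullback.lift_fst]

/-- Factorizations which agree on the universal homeomorphism agree on a finite one. -/
theorem exists_factor_eq {S X T T' T₁ T₂ : Scheme.{u}} (fX : X ⟶ S) [IsSeparated fX] (fT : T ⟶ S)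
    (ν : T' ⟶ T) (hν : FlatMor.IsUnivHomeo ν) (π₁ : T₁ ⟶ T) (π₂ : T₂ ⟶ T) [IsFinite π₁] [IsFinite π₂]
    (g₁ : T₁ ⟶ X) (g₂ : T₂ ⟶ X) (h₁ : T' ⟶ T₁) (h₂ : T' ⟶ T₂) (e₁ : g₁ ≫ fX = π₁ ≫ fT)
    (e₂ : g₂ ≫ fX = π₂ ≫ fT) (d₁ : h₁ ≫ π₁ = ν) (d₂ : h₂ ≫ π₂ = ν) (hg : h₁ ≫ g₁ = h₂ ≫ g₂) :
    ∃ (T₃ : Scheme.{u}) (π₃ : T₃ ⟶ T) (_ : IsFinite π₃) (_ : FlatMor.IsUnivHomeo π₃)
      (a₁ : T₃ ⟶ T₁) (a₂ : T₃ ⟶ T₂), a₁ ≫ π₁ = π₃ ∧ a₂ ≫ π₂ = π₃ ∧ a₁ ≫ g₁ = a₂ ≫ g₂ ∧
        (HTop.ResidueFieldsIso ν → HTop.ResidueFieldsIso π₃) := by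
  let w : pullback π₁ π₂ ⟶ pullback fX fX := pullback.lift (pullback.fst π₁ π₂ ≫ g₁) (pullback.snd π₁ π₂ ≫ g₂) (by
    rw [Category.assoc, Category.assoc, e₁, e₂, pullback.condition_assoc])
  let ε := pullback.fst w (pullback.diagonal fX)
  let h12 : T' ⟶ pullback π₁ π₂ := pullback.lift h₁ h₂ (d₁.trans d₂.symm)
  let h : T' ⟶ pullback w (pullback.diagonal fX) := pullback.lift h12 (h₁ ≫ g₁) (by
    refine pullback.hom_ext ?_ ?_ <;>
      simp only [Category.assoc, w, h12, pullback.lift_fst, pullback.lift_snd, pullback.diagonal_fst,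
        pullback.diagonal_snd, Category.comp_id, pullback.lift_fst_assoc, pullback.lift_snd_assoc, hg])
  have : IsFinite (pullback.fst π₁ π₂ ≫ π₁) := inferInstance
  have hεc : IsClosedImmersion ε := inferInstanceAs (IsClosedImmersion (pullback.fst w (pullback.diagonal fX)))
  obtain ⟨T₃, π₃, hf, hu, i, t, hi, -, -, hr⟩ := exists_finite_stage ν hν (ε ≫ pullback.fst π₁ π₂ ≫ π₁) h
    ((pullback.lift_fst_assoc _ _ _ _).trans ((pullback.lift_fst_assoc _ _ _ _).trans d₁))
  refine ⟨T₃, π₃, hf, hu, i ≫ ε ≫ pullback.fst π₁ π₂, i ≫ ε ≫ pullback.snd π₁ π₂, ?_, ?_, ?_, hr⟩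
  · rw [← hi]; simp only [Category.assoc]
  · rw [← hi]; simp only [Category.assoc, ← pullback.condition]
  · have e := pullback.condition (f := w) (g := pullback.diagonal fX)
    have e1 := congrArg (· ≫ pullback.fst fX fX) e
    have e2 := congrArg (· ≫ pullback.snd fX fX) e
    simp only [Category.assoc, w, pullback.lift_fst, pullback.lift_snd, pullback.diagonal_fst,
      pullback.diagonal_snd, Category.comp_id] at e1 e2
    simp only [Category.assoc, ε]
    rw [e1, e2]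

end GrothLib.SN25
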