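import Groth.Agent.Lib.SN25.Ring
import Groth.Agent.Lib.AWN25.SchemeFacts
import Groth.Agent.S7421
import Groth.Prelude.Def_Pi1

/-!
# Seminormal schemes and seminormalizations
-/

set_option autoImplicit false

universe u

open CategoryTheory Limits Opposite AlgebraicGeometry GrothLib.UHTower GrothLib.AWN25

namespace GrothLib.SN25

variable {X Y Z : Scheme.{u}}

theorem residueFieldsIso_comp (f : X ⟶ Y) (g : Y ⟶ Z) (hf : HTop.ResidueFieldsIso f)
    (hg : HTop.ResidueFieldsIso g) : HTop.ResidueFieldsIso (f ≫ g) := fun x => by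
  have h1 : IsIso (f.residueFieldMap x) := hf x
  have h2 : IsIso (g.residueFieldMap (f x)) := hg (f x)
  rw [Scheme.residueFieldMap_comp]
  exact @IsIso.comp_isIso _ _ _ _ _ _ _ h2 h1

theorem residueFieldsIso_of_comp (f : X ⟶ Y) (g : Y ⟶ Z) (h : HTop.ResidueFieldsIso (f ≫ g))
    (hg : HTop.ResidueFieldsIso g) : HTop.ResidueFieldsIso f := fun x => by
  have := hg (f x)
  have := h x
  rw [Scheme.residueFieldMap_comp] at this
  exact @IsIso.of_isIso_comp_left _ _ _ _ _ (g.residueFieldMap (f x)) (f.residueFieldMap x) (hg (f x)) this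

theorem residueFieldsIso_of_isOpenImmersion (f : X ⟶ Y) [IsOpenImmersion f] : HTop.ResidueFieldsIso f :=
  fun _ => inferInstance

theorem residueFieldsIso_restrict (f : X ⟶ Y) (h : HTop.ResidueFieldsIso f) (U : Y.Opens) :
    HTop.ResidueFieldsIso (f ∣_ U) := by
  refine residueFieldsIso_of_comp _ U.ι ?_ (residueFieldsIso_of_isOpenImmersion _)
  rw [morphismRestrict_ι]
  exact residueFieldsIso_comp _ _ (residueFieldsIso_of_isOpenImmersion _) h

theorem isUnivHomeo_restrict (f : X ⟶ Y) (h : FlatMor.IsUnivHomeo f) (U : Y.Opens) :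
    FlatMor.IsUnivHomeo (f ∣_ U) := by
  have h1 : UniversallyClosed (f ∣_ U) := IsZariskiLocalAtTarget.restrict (Frob.universallyClosed_of f h) _
  have h2 : UniversallyInjective (f ∣_ U) := IsZariskiLocalAtTarget.restrict (Frob.universallyInjective_of f h) _
  have h3 : Surjective (f ∣_ U) := IsZariskiLocalAtTarget.restrict (Frob.surjective_of f h) _
  exact (Frob.isUnivHomeo_iff _).2 ⟨h1, h2, h3⟩

theorem specMap_appLE_preimage (π : Y ⟶ X) [IsAffineHom π] {U : X.Opens} (hU : IsAffineOpen U) :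
    Spec.map (π.appLE U (π ⁻¹ᵁ U) le_rfl) =
      (hU.preimage π).isoSpec.inv ≫ (π ∣_ U) ≫ hU.isoSpec.hom := by
  rw [← cancel_mono hU.fromSpec, IsAffineOpen.SpecMap_appLE_fromSpec π hU (hU.preimage π)]
  simp only [← IsAffineOpen.isoSpec_inv_ι, Category.assoc, Iso.hom_inv_id_assoc, morphismRestrict_ι]

theorem uh_appLE (π : Y ⟶ X) [IsAffineHom π] (hπ : FlatMor.IsUnivHomeo π) {U : X.Opens} (hU : IsAffineOpen U) :
    UH (π.appLE U (π ⁻¹ᵁ U) le_rfl).hom := by
  have : FlatMor.IsUnivHomeo.{u}.RespectsIso := MorphismProperty.universally_respectsIso _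
  refine isUnivHomeo_iff_uh.1 ?_
  rw [CommRingCat.ofHom_hom, specMap_appLE_preimage π hU, MorphismProperty.cancel_left_of_respectsIso
    FlatMor.IsUnivHomeo, MorphismProperty.cancel_right_of_respectsIso FlatMor.IsUnivHomeo]
  exact isUnivHomeo_restrict π hπ U

theorem trivRes_appLE (π : Y ⟶ X) [IsAffineHom π] (hπ : HTop.ResidueFieldsIso π) {U : X.Opens}
    (hU : IsAffineOpen U) : TrivRes (π.appLE U (π ⁻¹ᵁ U) le_rfl).hom := by
  refine residueFieldsIso_iff_trivRes.1 ?_
  rw [CommRingCat.ofHom_hom, specMap_appLE_preimage π hU]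
  exact residueFieldsIso_comp _ _ (residueFieldsIso_of_isOpenImmersion _)
    (residueFieldsIso_comp _ _ (residueFieldsIso_restrict π hπ U) (residueFieldsIso_of_isOpenImmersion _))

theorem isSeminormal_affine {T : Scheme.{u}} (hT : HTop.IsSeminormal T) {V : T.Opens} (hV : IsAffineOpen V) :
    HTop.IsSeminormalRing Γ(T, V) := (isSeminormal_iff T).1 hT ⟨V, hV⟩

/-- Maps from a seminormal scheme lift uniquely along universal homeomorphisms with trivial residue extensions. -/
theorem existsUnique_lift {T : Scheme.{u}} (hT : HTop.IsSeminormal T) (π : Y ⟶ X)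
    (hπ : FlatMor.IsUnivHomeo π) (hr : HTop.ResidueFieldsIso π) (g : T ⟶ X) : ∃! h : T ⟶ Y, h ≫ π = g := by
  have hTred : AlgebraicGeometry.IsReduced T := Groth.Agent.S7421.result.2 T hT
  obtain ⟨hint, hinj, -⟩ := (Groth.Agent.S0415.result π).1 hπ
  have hloc : ∀ t : T, ∃ (V : T.Opens) (h : (V : Scheme) ⟶ Y), t ∈ V ∧ h ≫ π = V.ι ≫ g := fun t => by
    obtain ⟨U, hU, hxU, -⟩ := exists_isAffineOpen_mem_and_subset (X := X) (x := g t) (U := ⊤) trivial
    obtain ⟨V, hV, htV, hVU⟩ := exists_isAffineOpen_mem_and_subset (X := T) (x := t) (U := g ⁻¹ᵁ U) hxU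
    obtain ⟨χ, hχ⟩ := exists_lift_of_seminormal (isSeminormal_affine hT hV) (g.appLE U V hVU).hom
      (uh_appLE π hπ hU) (trivRes_appLE π hr hU)
    refine ⟨V, hV.isoSpec.hom ≫ Spec.map (CommRingCat.ofHom χ) ≫ (hU.preimage π).fromSpec, htV, ?_⟩
    have e : π.appLE U (π ⁻¹ᵁ U) le_rfl ≫ CommRingCat.ofHom χ = g.appLE U V hVU := CommRingCat.hom_ext hχ
    rw [Category.assoc, Category.assoc, ← IsAffineOpen.SpecMap_appLE_fromSpec π hU (hU.preimage π) le_rfl,
      ← Spec.map_comp_assoc, e, IsAffineOpen.SpecMap_appLE_fromSpec g hU hV hVU, hV.isoSpec_hom_fromSpec_assoc]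
  choose V h htV hh using hloc
  have hcov : TopologicalSpace.IsOpenCover V :=
    TopologicalSpace.IsOpenCover.mk (top_unique fun t _ => TopologicalSpace.Opens.mem_iSup.2 ⟨t, htV t⟩)
  let 𝒰 := T.openCoverOfIsOpenCover V hcov
  let H := 𝒰.glueMorphisms h fun a b => by
    have : AlgebraicGeometry.IsReduced (pullback (𝒰.f a) (𝒰.f b)) :=
      isReduced_of_isOpenImmersion (pullback.fst _ _ ≫ 𝒰.f a)
    refine hom_ext_of_univInjective π ?_
    exact (Category.assoc _ _ _).trans ((congrArg (pullback.fst _ _ ≫ ·) (hh a)).trans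
      ((pullback.condition_assoc _).trans ((congrArg (pullback.snd _ _ ≫ ·) (hh b)).symm.trans (Category.assoc _ _ _).symm)))
  have hH : H ≫ π = g := 𝒰.hom_ext _ _ fun a => by
    rw [Scheme.Cover.ι_glueMorphisms_assoc]
    exact hh a
  exact ⟨H, hH, fun h' hh' => hom_ext_of_univInjective π (hh'.trans hH.symm)⟩

/-- A seminormal universal homeomorphism with trivial residue extensions is a seminormalization. -/
theorem isSeminormalization_of {X' : Scheme.{u}} (ν : X' ⟶ X) (h : FlatMor.IsUnivHomeo ν)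
    (hr : HTop.ResidueFieldsIso ν) (hX' : HTop.IsSeminormal X') : HTop.IsSeminormalization ν :=
  ⟨⟨h, hr⟩, fun _ π hπ hπr => existsUnique_lift hX' π hπ hπr ν⟩

theorem isIso_of_isSeminormal {X' : Scheme.{u}} (ν : X' ⟶ X) (hν : HTop.IsSeminormalization ν)
    (hX : HTop.IsSeminormal X) : IsIso ν := by
  obtain ⟨b, hb, -⟩ := existsUnique_lift hX ν hν.1.1 hν.1.2 (𝟙 X)
  obtain ⟨c, -, hc⟩ := hν.2 _ ν hν.1.1 hν.1.2
  refine ⟨b, ?_, hb⟩
  exact (hc _ ((Category.assoc _ _ _).trans ((congrArg (ν ≫ ·) hb).trans (Category.comp_id ν)))).trans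
    (hc _ (Category.id_comp ν)).symm

theorem isSeminormal_opens {T : Scheme.{u}} (hT : HTop.IsSeminormal T) (V : T.Opens) :
    HTop.IsSeminormal (V : Scheme) := fun x => by
  obtain ⟨W, hW, hxW, -⟩ := exists_isAffineOpen_mem_and_subset (X := (V : Scheme)) (x := x) (U := ⊤) trivial
  refine ⟨⟨W, hW⟩, hxW, ?_⟩
  exact isSeminormalRing_of_equiv (V.ι.appIso W).commRingCatIsoToRingEquiv
    (isSeminormal_affine hT (hW.image_of_isOpenImmersion V.ι))

theorem isSeminormal_of_isNormal {T : Scheme.{u}} (h : Pi1.IsNormalScheme T) : HTop.IsSeminormal T := by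
  have : ∀ x : T, _root_.IsReduced (T.presheaf.stalk x) := fun x => have := (h x).1; inferInstance
  have : AlgebraicGeometry.IsReduced T := isReduced_of_isReduced_stalk T
  refine (isSeminormal_iff T).2 fun U => isSeminormalRing_of_normal fun m hm => ?_
  let x : T := U.2.fromSpec ⟨m, hm.isPrime⟩
  have hxU : x ∈ (U.1 : T.Opens) := by
    have : x ∈ U.2.fromSpec.opensRange := ⟨_, rfl⟩
    rwa [IsAffineOpen.opensRange_fromSpec] at this
  have hprime : U.2.primeIdealOf ⟨x, hxU⟩ = ⟨m, hm.isPrime⟩ := by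
    apply U.2.fromSpec.isOpenEmbedding.injective
    exact U.2.fromSpec_primeIdealOf ⟨x, hxU⟩
  let _ := TopCat.Presheaf.algebra_section_stalk T.presheaf (⟨x, hxU⟩ : (U.1 : T.Opens))
  have hloc := U.2.isLocalization_stalk ⟨x, hxU⟩
  rw [hprime] at hloc
  change IsLocalization m.primeCompl _ at hloc
  let e := IsLocalization.algEquiv m.primeCompl (T.presheaf.stalk x) (Localization.AtPrime m)
  have := (h x).1
  have := (h x).2
  exact ⟨e.symm.injective.isDomain _, IsIntegrallyClosed.of_equiv e.toRingEquiv⟩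

end GrothLib.SN25
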