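import Groth.Agent.Lib.AWN25.Map
import Groth.Agent.S15941
import Mathlib.RingTheory.LocalProperties.Reduced

/-!
# Trivial residue extensions and seminormal rings
-/

set_option autoImplicit false

universe u

open GrothLib.UHTower GrothLib.AWN25 TensorProduct

namespace GrothLib.SN25

variable {A B C : Type u} [CommRing A] [CommRing B] [CommRing C]

theorem trivRes_comp {φ : A →+* B} {χ : B →+* C} (h : TrivRes φ) (h' : TrivRes χ) :
    TrivRes (χ.comp φ) := by
  intro Q _ c
  obtain ⟨s, a, hs, ha⟩ := h' Q c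
  obtain ⟨s₁, a₁, hs₁, ha₁⟩ := h (Q.comap χ) s
  obtain ⟨t₁, b₁, ht₁, hb₁⟩ := h (Q.comap χ) a
  have hmem : ∀ x : B, x ∈ Q.comap χ ↔ χ x ∈ Q := fun _ => Iff.rfl
  simp only [hmem, map_sub, map_mul] at hs₁ ha₁ ht₁ hb₁
  have ha₁' : χ (φ a₁) ∉ Q := fun h0 => by
    have := Q.add_mem ha₁ h0
    rw [sub_add_cancel] at this
    exact (‹Q.IsPrime›.mem_or_mem this).elim hs₁ hs
  refine ⟨a₁ * t₁, b₁ * s₁, ?_, ?_⟩
  · simp only [RingHom.comp_apply, map_mul]
    exact fun h0 => (‹Q.IsPrime›.mem_or_mem h0).elim ha₁' ht₁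
  · have e : χ.comp φ (a₁ * t₁) * c - χ.comp φ (b₁ * s₁) =
        -(χ (φ t₁) * c) * (χ (φ s₁) * χ s - χ (φ a₁)) + χ (φ t₁) * χ (φ s₁) * (χ s * c - χ a) +
          χ (φ s₁) * (χ (φ t₁) * χ a - χ (φ b₁)) := by
      simp only [RingHom.comp_apply, map_mul]; ring
    rw [e]
    exact add_mem (add_mem (Q.mul_mem_left _ ha₁) (Q.mul_mem_left _ ha)) (Q.mul_mem_left _ hb₁)

theorem trivRes_cancel {φ : A →+* B} {χ : B →+* C} (h : TrivRes (χ.comp φ)) : TrivRes χ := fun Q _ c => by
  obtain ⟨s, a, hs, ha⟩ := h Q c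
  exact ⟨φ s, φ a, hs, ha⟩

theorem trivRes_of_surjective {φ : A →+* B} (h : Function.Surjective φ) : TrivRes φ := fun Q _ b => by
  obtain ⟨a, rfl⟩ := h b
  exact ⟨1, a, by simpa using ‹Q.IsPrime›.one_notMem, by simp⟩

/-- The elements with trivial residue extension form a subring. -/
theorem exists_mul_sub_mem {φ : A →+* B} {Q : Ideal B} [Q.IsPrime] {x y : B} {s a t d : A}
    (hs : φ s ∉ Q) (ha : φ s * x - φ a ∈ Q) (ht : φ t ∉ Q) (hd : φ t * y - φ d ∈ Q) :
    (φ (s * t) ∉ Q ∧ φ (s * t) * (x + y) - φ (a * t + d * s) ∈ Q) ∧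
      φ (s * t) * (x * y) - φ (a * d) ∈ Q := by
  refine ⟨⟨by rw [map_mul]; exact fun h' => (‹Q.IsPrime›.mem_or_mem h').elim hs ht, ?_⟩, ?_⟩
  · have e : φ (s * t) * (x + y) - φ (a * t + d * s) =
        φ t * (φ s * x - φ a) + φ s * (φ t * y - φ d) := by rw [map_mul, map_add, map_mul, map_mul]; ring
    rw [e]
    exact add_mem (Q.mul_mem_left _ ha) (Q.mul_mem_left _ hd)
  · have e : φ (s * t) * (x * y) - φ (a * d) = (φ s * x - φ a) * (φ t * y) + φ a * (φ t * y - φ d) := by
      rw [map_mul, map_mul]; ring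
    rw [e]
    exact add_mem (Q.mul_mem_right _ ha) (Q.mul_mem_left _ hd)

theorem trivRes_baseChange [Algebra A B] [Algebra A C] (hC : TrivRes (algebraMap A C)) :
    TrivRes (algebraMap B (B ⊗[A] C)) := by
  intro Q _ z
  induction z using TensorProduct.induction_on with
  | zero => exact ⟨1, 0, by rw [map_one]; exact ‹Q.IsPrime›.one_notMem, by simp⟩
  | add x y hx hy =>
    obtain ⟨s, a, hs, ha⟩ := hx
    obtain ⟨t, d, ht, hd⟩ := hy
    exact ⟨_, _, (exists_mul_sub_mem hs ha ht hd).1⟩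
  | tmul b c =>
    let i : C →+* B ⊗[A] C := (Algebra.TensorProduct.includeRight (R := A) (A := B)).toRingHom
    obtain ⟨s, a, hs, ha⟩ := hC (Q.comap i) c
    have hcomm : ∀ r : A, i (algebraMap A C r) = algebraMap B (B ⊗[A] C) (algebraMap A B r) := fun r =>
      AlgHom.commutes (Algebra.TensorProduct.includeRight (R := A) (A := B) (B := C)) r
    refine ⟨algebraMap A B s, b * algebraMap A B a, fun h => hs (Ideal.mem_comap.2 ((hcomm s).symm ▸ h)), ?_⟩
    have e : b ⊗ₜ[A] c = algebraMap B (B ⊗[A] C) b * i c := by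
      simp [i, Algebra.TensorProduct.algebraMap_apply]
    rw [e, map_mul, ← hcomm, ← hcomm, mul_left_comm, ← mul_sub]
    refine Q.mul_mem_left _ ?_
    rw [← map_mul, ← map_sub]
    exact ha

theorem trivRes_tensor [Algebra A B] [Algebra A C] (hB : TrivRes (algebraMap A B))
    (hC : TrivRes (algebraMap A C)) : TrivRes (algebraMap A (B ⊗[A] C)) := by
  rw [IsScalarTower.algebraMap_eq A B (B ⊗[A] C)]
  exact trivRes_comp hB (trivRes_baseChange hC)

/-- Being seminormal can be checked at maximal ideals. -/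
theorem isSeminormalRing_of_maximal [IsReduced A]
    (h : ∀ (m : Ideal A) [m.IsMaximal], HTop.IsSeminormalRing (Localization.AtPrime m)) :
    HTop.IsSeminormalRing A := by
  refine isSeminormalRing_of fun D _ _ χ hu ht => ⟨injective_of_surjective_comap hu.2.1, fun d => ?_⟩
  let I : Ideal A :=
    { carrier := {a | ∃ a', χ a * d = χ a'}
      zero_mem' := ⟨0, by simp⟩
      add_mem' := fun {x y} ⟨x', hx⟩ ⟨y', hy⟩ => ⟨x' + y', by rw [map_add, add_mul, hx, hy, map_add]⟩
      smul_mem' := fun r x ⟨x', hx⟩ => ⟨r * x', by rw [smul_eq_mul, map_mul, mul_assoc, hx, map_mul]⟩ }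
  by_cases hI : I = ⊤
  · obtain ⟨a', ha'⟩ : (1 : A) ∈ I := hI ▸ Submodule.mem_top
    exact ⟨a', by rw [← ha', map_one, one_mul]⟩
  obtain ⟨m, hm, hle⟩ := Ideal.exists_le_maximal I hI
  exfalso
  let M := m.primeCompl
  let Dm := Localization (M.map (χ : A →* D))
  have hb := bijective_of_seminormal (h m) (uh_localizationMap hu M (Localization.AtPrime m) Dm)
    (trivRes_localizationMap ht M (Localization.AtPrime m) Dm)
  obtain ⟨z, hz⟩ := hb.2 (algebraMap D Dm d)
  obtain ⟨⟨a, t⟩, hat⟩ := IsLocalization.surj M z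
  have e := congrArg (IsLocalization.map (M := M) Dm χ
    (show M ≤ (M.map (χ : A →* D)).comap χ from M.le_comap_map)) hat
  rw [map_mul, hz, IsLocalization.map_eq, IsLocalization.map_eq, ← map_mul] at e
  obtain ⟨⟨_, μ, hμ, rfl⟩, hc⟩ := IsLocalization.exists_of_eq (M := M.map (χ : A →* D)) e
  have hc' : χ μ * (d * χ (t : A)) = χ μ * χ a := hc
  have hmem : (μ * t : A) ∈ I := ⟨μ * a, by rw [map_mul, map_mul, ← hc']; ring⟩
  exact (mul_mem hμ t.2 : μ * (t : A) ∈ M) (hle hmem)

/-- A reduced ring whose localizations at maximal ideals are normal domains is seminormal. -/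
theorem isSeminormalRing_of_normal [IsReduced A]
    (h : ∀ (m : Ideal A) [m.IsMaximal],
      IsDomain (Localization.AtPrime m) ∧ IsIntegrallyClosed (Localization.AtPrime m)) :
    HTop.IsSeminormalRing A :=
  isSeminormalRing_of_maximal fun m _ =>
    haveI := (h m).1
    haveI := (h m).2
    Groth.Agent.S15941.result _

/-- A map to a seminormal ring lifts along a universal homeomorphism with trivial residue extensions. -/
theorem exists_lift_of_seminormal (hB : HTop.IsSeminormalRing B) (g : A →+* B) {ψ : A →+* C}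
    (hψ : UH ψ) (ht : TrivRes ψ) : ∃ χ : C →+* B, χ.comp ψ = g := by
  let _ : Algebra A B := g.toAlgebra
  let _ : Algebra A C := ψ.toAlgebra
  let N := nilradical (B ⊗[A] C)
  have : IsReduced ((B ⊗[A] C) ⧸ N) := (Ideal.isRadical_iff_quotient_reduced N).1 (Ideal.radical_isRadical _)
  have hb := bijective_of_seminormal hB (φ := (Ideal.Quotient.mk N).comp (algebraMap B (B ⊗[A] C)))
    (uh_comp (uh_baseChange hψ) (uh_quotient N le_rfl)) (trivRes_quotient_comp (trivRes_baseChange ht) N)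
  let e := RingEquiv.ofBijective _ hb
  refine ⟨e.symm.toRingHom.comp ((Ideal.Quotient.mk N).comp
    (Algebra.TensorProduct.includeRight (R := A) (A := B) (B := C)).toRingHom), RingHom.ext fun a => ?_⟩
  refine e.symm_apply_eq.2 ?_
  change Ideal.Quotient.mk N (Algebra.TensorProduct.includeRight (R := A) (A := B) (algebraMap A C a)) =
    Ideal.Quotient.mk N (algebraMap B (B ⊗[A] C) (algebraMap A B a))
  rw [AlgHom.commutes, IsScalarTower.algebraMap_apply A B (B ⊗[A] C)]

/-- Trivial residue extensions in terms of the residue field maps. -/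
theorem residueFieldsIso_iff_trivRes {φ : A →+* B} :
    HTop.ResidueFieldsIso (AlgebraicGeometry.Spec.map (CommRingCat.ofHom φ)) ↔ TrivRes φ :=
  (forall_congr' fun _ => (CategoryTheory.ConcreteCategory.isIso_iff_bijective _).trans
    ⟨fun h => h.2, fun h => ⟨RingHom.injective _, h⟩⟩).trans surjective_residueFieldMap_iff

end GrothLib.SN25
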